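import Cfsg.Prelude.Def_Amalgam
import Cfsg.Agent.Lib.Components.GenFitting
import Cfsg.Agent.Lib.Core.Fitting
import Cfsg.Agent.Lib.Coprime.Basic
import Cfsg.Agent.Lib.Coprime.Quotient

/-!
# Bender's argument for primitive pairs

Local cores of the members of a pair of subgroups inside their intersection.
-/

set_option autoImplicit false
set_option linter.style.haveILetI false

namespace Cfsg.Agent.Lib.BenderPair

open Subgroup Cfsg
open scoped commutatorElement
open Cfsg.Agent.Lib

variable {G : Type*} [Group G]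

theorem le_normalizer_map_subtype_of_normal {M : Subgroup G} (A : Subgroup M) [A.Normal] :
    M ≤ normalizer ((A.map M.subtype : Subgroup G) : Set G) := by
  have h := le_normalizer_map (H := A) M.subtype
  rwa [normalizer_eq_top, ← MonoidHom.range_eq_map, range_subtype] at h

variable [Finite G]

theorem le_normalizer_pCoreOf (p : ℕ) (M : Subgroup G) :
    M ≤ normalizer ((pCoreOf p M : Subgroup G) : Set G) := by
  haveI : (pCore p M).Normal := by
    have := PSolvable.pCore_characteristic (p := p) (G := M)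
    infer_instance
  exact le_normalizer_map_subtype_of_normal _

theorem isPGroup_pCoreOf (p : ℕ) (M : Subgroup G) : IsPGroup p (pCoreOf p M) :=
  PSolvable.pCore_isPGroup.map _

theorem pCoreOf_le (p : ℕ) (M : Subgroup G) : pCoreOf p M ≤ M := map_subtype_le _

theorem le_pCoreOf {p : ℕ} {M N : Subgroup G} (hN : N ≤ M) (hn : M ≤ normalizer (N : Set G))
    (hp : IsPGroup p N) : N ≤ pCoreOf p M := by
  haveI : (N.subgroupOf M).Normal := normal_subgroupOf_of_le_normalizer hn
  rw [← map_subgroupOf_eq_of_le hN]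
  exact Subgroup.map_mono (PSolvable.le_pCore (hp.of_equiv (subgroupOfEquivOfLe hN).symm))

/-- The part of the Fitting subgroup away from `q`. -/
def coFitting (q : ℕ) (M : Subgroup G) : Subgroup G :=
  ⨆ r : {r : ℕ // r.Prime ∧ r ≠ q}, pCoreOf r M

omit [Finite G] in
theorem pCoreOf_le_coFitting {q r : ℕ} (hr : r.Prime) (hrq : r ≠ q) (M : Subgroup G) :
    pCoreOf r M ≤ coFitting q M :=
  le_iSup (fun s : {r : ℕ // r.Prime ∧ r ≠ q} => pCoreOf s M) ⟨r, hr, hrq⟩

theorem map_fitting_eq (M : Subgroup G) :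
    (fittingSubgroup M).map M.subtype = ⨆ r : Nat.Primes, pCoreOf r M := by
  rw [Fitting.fittingSubgroup_eq_iSup_pCore, Subgroup.map_iSup]
  rfl

theorem le_normalizer_centralizer {M R : Subgroup G} (h : M ≤ normalizer (R : Set G)) :
    M ≤ normalizer ((centralizer (R : Set G) : Subgroup G) : Set G) := by
  intro g hg
  rw [mem_normalizer_iff]
  intro x
  have hconj : ∀ g ∈ normalizer (R : Set G), ∀ x ∈ centralizer (R : Set G),
      g * x * g⁻¹ ∈ centralizer (R : Set G) := by
    intro g hg x hx
    rw [mem_centralizer_iff]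
    intro r hr
    have h1 := mem_centralizer_iff.mp hx (g⁻¹ * r * g) ((mem_normalizer_iff''.mp hg r).mp hr)
    calc r * (g * x * g⁻¹) = g * ((g⁻¹ * r * g) * x) * g⁻¹ := by group
      _ = g * (x * (g⁻¹ * r * g)) * g⁻¹ := by rw [h1]
      _ = g * x * g⁻¹ * r := by group
  refine ⟨hconj g (h hg) x, fun hx => ?_⟩
  have := hconj g⁻¹ (inv_mem (h hg)) _ hx
  simpa [mul_assoc] using this

theorem le_normalizer_coFitting (q : ℕ) (M : Subgroup G) :
    M ≤ normalizer ((coFitting q M : Subgroup G) : Set G) := by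
  intro g hg
  rw [mem_normalizer_iff_map_conj_eq, coFitting, Subgroup.map_iSup]
  refine iSup_congr fun r => ?_
  exact mem_normalizer_iff_map_conj_eq.mp (le_normalizer_pCoreOf r M hg)

/-- Normal subgroups of coprime prime-power orders of a common overgroup commute. -/
theorem pCoreOf_le_centralizer {p r : ℕ} [Fact p.Prime] [Fact r.Prime] (hpr : p ≠ r)
    {A B : Subgroup G} (hA : IsPGroup p A) (hB : IsPGroup r B)
    (hAB : A ≤ normalizer (B : Set G)) (hBA : B ≤ normalizer (A : Set G)) :
    A ≤ centralizer (B : Set G) := by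
  rw [← commutator_eq_bot_iff_le_centralizer, eq_bot_iff]
  refine le_trans ?_ (IsPGroup.disjoint_of_ne p r hpr A B hA hB).le_bot
  refine le_inf ?_ ?_
  · rw [commutator_comm]
    exact le_normalizer_iff_commutator_le_right.mp hBA
  · exact le_normalizer_iff_commutator_le_right.mp hAB

/-- The transfer of `O_q` from the intersection to the member of the pair. -/
theorem pCoreOf_inf_le {M N : Subgroup G} {p q : ℕ} [Fact p.Prime] [Fact q.Prime] (hpq : p ≠ q)
    (hF : centralizer ((fittingSubgroup M : Subgroup M) : Set M) ≤ fittingSubgroup M)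
    (hMD : ∀ r : ℕ, r.Prime → pCoreOf r M ≤ N) (hP : pCoreOf p N ≤ M)
    (hN : M ⊓ normalizer ((pCoreOf p N : Subgroup G) : Set G) = M ⊓ N) :
    pCoreOf q (M ⊓ N) ≤ pCoreOf q M := by
  set D := M ⊓ N with hDdef
  set T' := pCoreOf p N with hT'
  have hDM : D ≤ M := inf_le_left
  have hDT : D ≤ normalizer (T' : Set G) := inf_le_right.trans (le_normalizer_pCoreOf p N)
  have hrD : ∀ r : ℕ, r.Prime → pCoreOf r M ≤ D := fun r hr =>
    le_inf (pCoreOf_le r M) (hMD r hr)
  set X := M ⊓ centralizer (coFitting q M : Set G)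
  set Y := M ⊓ centralizer (coFitting p M : Set G)
  have hXY : ∀ r : ℕ, r.Prime → ∀ u, u ∈ X → u ∈ Y → u ∈ centralizer (pCoreOf r M : Set G) := by
    intro r hr u huX huY
    by_cases hrq : r = q
    · exact centralizer_le (pCoreOf_le_coFitting hr (fun h => hpq (h.symm.trans hrq)) M) huY.2
    · exact centralizer_le (pCoreOf_le_coFitting hr hrq M) huX.2
  -- `O_p(N)` lies in `Y`
  have hTY : T' ≤ Y := le_inf hP (by
    rw [le_centralizer_iff]
    refine iSup_le fun r => ?_
    haveI := Fact.mk r.2.1
    rw [le_centralizer_iff]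
    exact pCoreOf_le_centralizer (Ne.symm r.2.2) (isPGroup_pCoreOf p N) (isPGroup_pCoreOf r M)
      (hP.trans (le_normalizer_pCoreOf r M)) ((hrD r r.2.1).trans hDT))
  have hMX : M ≤ normalizer (X : Set G) := fun g hg => by
    have := le_normalizer_centralizer (le_normalizer_coFitting q M) hg
    rw [mem_normalizer_iff]
    intro x
    simp only [X, mem_inf, (mem_normalizer_iff.mp this x), (mem_normalizer_iff.mp
      (Subgroup.le_normalizer hg) x)]
  have hMY : M ≤ normalizer (Y : Set G) := fun g hg => by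
    have := le_normalizer_centralizer (le_normalizer_coFitting p M) hg
    rw [mem_normalizer_iff]
    intro x
    simp only [Y, mem_inf, (mem_normalizer_iff.mp this x), (mem_normalizer_iff.mp
      (Subgroup.le_normalizer hg) x)]
  -- `q`-elements of `X` centralise `O_p(N)`
  have key : ∀ x ∈ X, ∀ i : ℕ, x ^ q ^ i = 1 → x ∈ D := by
    intro x hx i hxi
    suffices hcomm : ∀ t ∈ T', x * t = t * x by
      rw [← hN]
      refine ⟨hx.1, ?_⟩
      rw [SetLike.mem_coe]
      exact centralizer_le_normalizer _ (mem_centralizer_iff.mpr fun t ht => (hcomm t ht).symm)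
    intro t ht
    set u := x * t * x⁻¹ * t⁻¹ with hu
    have huX : u ∈ X := by
      have h1 : t * x⁻¹ * t⁻¹ ∈ X := (mem_normalizer_iff.mp (hMX (hP ht)) x⁻¹).mp (inv_mem hx)
      have := mul_mem hx h1
      rwa [hu, show x * t * x⁻¹ * t⁻¹ = x * (t * x⁻¹ * t⁻¹) by group]
    have huY : u ∈ Y :=
      mul_mem ((mem_normalizer_iff.mp (hMY hx.1) t).mp (hTY ht)) (inv_mem (hTY ht))
    have huF : (⟨u, huX.1⟩ : M) ∈ fittingSubgroup M := by
      refine hF (mem_centralizer_iff.mpr fun f hf => Subtype.ext ?_)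
      have hle : (fittingSubgroup M).map M.subtype ≤ centralizer ({u} : Set G) := by
        rw [map_fitting_eq]
        refine iSup_le fun r w hw => ?_
        exact mem_centralizer_singleton_iff.mpr (mem_centralizer_iff.mp (hXY r r.2 u huX huY) w hw)
      exact mem_centralizer_singleton_iff.mp (hle ⟨f, hf, rfl⟩)
    -- `u` is a `p`-element
    have hdec : u ∈ coFitting p M ⊔ pCoreOf p M := by
      have h1 : (fittingSubgroup M).map M.subtype ≤ coFitting p M ⊔ pCoreOf p M := by
        rw [map_fitting_eq]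
        refine iSup_le fun r => ?_
        by_cases hr : (r : ℕ) = p
        · exact hr ▸ le_sup_right
        · exact le_sup_of_le_left (pCoreOf_le_coFitting r.2 hr M)
      exact h1 ⟨_, huF, rfl⟩
    rw [← SetLike.mem_coe, coe_mul_of_right_le_normalizer_left _ _
      ((pCoreOf_le p M).trans (le_normalizer_coFitting p M))] at hdec
    obtain ⟨a, ha, s, hs, has⟩ := hdec
    have hcs : ∀ w ∈ T' ⊔ pCoreOf p M, Commute a w := by
      have hle : T' ⊔ pCoreOf p M ≤ centralizer ({a} : Set G) := by
        refine sup_le (fun w hw => mem_centralizer_singleton_iff.mpr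
          (mem_centralizer_iff.mp (hTY hw).2 a ha).symm) fun w hw => ?_
        have hc : coFitting p M ≤ centralizer (pCoreOf p M : Set G) := iSup_le fun r => by
          haveI := Fact.mk r.2.1
          exact pCoreOf_le_centralizer r.2.2 (isPGroup_pCoreOf r M) (isPGroup_pCoreOf p M)
            ((pCoreOf_le r M).trans (le_normalizer_pCoreOf p M))
            ((pCoreOf_le p M).trans (le_normalizer_pCoreOf r M))
        exact mem_centralizer_singleton_iff.mpr (mem_centralizer_iff.mp (hc ha) w hw)
      exact fun w hw => (mem_centralizer_singleton_iff.mp (hle hw)).symm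
    have hpg : IsPGroup p (T' ⊔ pCoreOf p M : Subgroup G) :=
      (isPGroup_pCoreOf p N).to_sup_of_normal_right' (isPGroup_pCoreOf p M)
        (hP.trans (le_normalizer_pCoreOf p M))
    obtain ⟨j1, hj1⟩ := hpg ⟨s * t, mul_mem (mem_sup_right hs) (mem_sup_left ht)⟩
    obtain ⟨j2, hj2⟩ := isPGroup_pCoreOf p N ⟨t, ht⟩
    obtain ⟨j3, hj3⟩ := isPGroup_pCoreOf p M ⟨s, hs⟩
    have hst : (s * t) ^ p ^ j1 = 1 := congrArg Subtype.val hj1
    have htj : t ^ p ^ j2 = 1 := congrArg Subtype.val hj2
    have hsj : s ^ p ^ j3 = 1 := congrArg Subtype.val hj3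
    have haj : a ^ p ^ (j1 + j2) = 1 := by
      have h1 : (x * t * x⁻¹) ^ p ^ (j1 + j2) = 1 := by
        rw [conj_pow, pow_add, mul_comm, pow_mul, htj, one_pow, mul_one, mul_inv_cancel]
      have h2 : x * t * x⁻¹ = a * (s * t) := by
        rw [← mul_assoc, show a * s = u from has, hu]; group
      rw [h2, (hcs _ (mul_mem (mem_sup_right hs) (mem_sup_left ht))).mul_pow,
        pow_add p j1 j2, pow_mul (s * t), hst, one_pow, mul_one, ← pow_add] at h1
      exact h1
    have hup : u ^ p ^ (j1 + j2 + j3) = 1 := by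
      rw [← show a * s = u from has, (hcs s (mem_sup_right hs)).mul_pow, pow_add p (j1 + j2) j3,
        pow_mul, haj, one_pow, one_mul, mul_comm (p ^ (j1 + j2)), pow_mul, hsj, one_pow]
    -- hence in `O_p(M)`, which `x` centralises
    have huP : u ∈ pCoreOf p M := by
      set F := fittingSubgroup M
      have hnd := Fitting.not_dvd_relIndex_pCore_fitting (G := M) p
      haveI : (pCore p M).Normal := by
        have := PSolvable.pCore_characteristic (p := p) (G := M)
        infer_instance
      haveI : ((pCore p M).subgroupOf F).Normal := inferInstance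
      set w : F := ⟨⟨u, huX.1⟩, huF⟩
      have hw : (QuotientGroup.mk' ((pCore p M).subgroupOf F) w) = 1 := by
        apply orderOf_eq_one_iff.mp
        refine Nat.eq_one_of_dvd_coprimes
          (((Fact.out : p.Prime).coprime_iff_not_dvd.mpr hnd).pow_left (j1 + j2 + j3)) ?_ (orderOf_dvd_natCard _)
        exact orderOf_dvd_of_pow_eq_one (by
          rw [← map_pow, show w ^ p ^ (j1 + j2 + j3) = 1 from Subtype.ext (Subtype.ext hup), map_one])
      exact ⟨⟨u, huX.1⟩, (QuotientGroup.eq_one_iff w).mp hw, rfl⟩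
    have hxu : Commute x u := (mem_centralizer_iff.mp
      (centralizer_le (pCoreOf_le_coFitting Fact.out hpq M) hx.2) u huP).symm
    have hiter : ∀ n : ℕ, x ^ n * t * (x ^ n)⁻¹ = u ^ n * t := by
      intro n
      induction n with
      | zero => simp
      | succ n ih =>
        calc x ^ (n + 1) * t * (x ^ (n + 1))⁻¹ = x * (x ^ n * t * (x ^ n)⁻¹) * x⁻¹ := by
              rw [pow_succ']; group
          _ = (x * u ^ n * x⁻¹) * (x * t * x⁻¹) := by rw [ih]; group
          _ = u ^ n * (u * t) := by
              rw [(hxu.pow_right n).eq, mul_inv_cancel_right, show x * t * x⁻¹ = u * t by rw [hu]; group]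
          _ = u ^ (n + 1) * t := by rw [pow_succ, mul_assoc (u ^ n) u t]
    have h1 := hiter (q ^ i)
    rw [hxi, inv_one, one_mul, mul_one, eq_comm, mul_eq_right] at h1
    have hu1 : u = 1 := orderOf_eq_one_iff.mp (Nat.eq_one_of_dvd_coprimes
      (Nat.Coprime.pow (j1 + j2 + j3) i ((Nat.coprime_primes Fact.out Fact.out).mpr hpq))
      (orderOf_dvd_of_pow_eq_one hup) (orderOf_dvd_of_pow_eq_one h1))
    rw [hu, mul_inv_eq_one] at hu1
    exact mul_inv_eq_iff_eq_mul.mp hu1
  set T := closure {x : G | x ∈ X ∧ ∃ i : ℕ, x ^ q ^ i = 1} with hTdef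
  have hTD : T ≤ D := (closure_le _).mpr fun x ⟨hx, i, hi⟩ => key x hx i hi
  have hMT : M ≤ normalizer (T : Set G) := by
    intro g hg
    have hconj : ∀ g ∈ M, T.map (MulAut.conj g).toMonoidHom ≤ T := by
      intro g hg
      rw [hTdef, MonoidHom.map_closure]
      refine closure_mono ?_
      rintro _ ⟨x, ⟨hx, i, hi⟩, rfl⟩
      refine ⟨(mem_normalizer_iff.mp (hMX hg) x).mp hx, i, ?_⟩
      rw [← map_pow, hi, map_one]
    rw [mem_normalizer_iff]
    intro x
    refine ⟨fun h => hconj g hg ⟨x, h, rfl⟩, fun h => ?_⟩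
    have := hconj g⁻¹ (inv_mem hg) ⟨_, h, rfl⟩
    simpa [mul_assoc] using this
  set Q := pCoreOf q D
  have hQD : Q ≤ D := pCoreOf_le q D
  have hQT : Q ≤ T := by
    intro x hx
    obtain ⟨i, hi⟩ := isPGroup_pCoreOf q D ⟨x, hx⟩
    refine subset_closure ⟨⟨hDM (hQD hx), ?_⟩, i, congrArg Subtype.val hi⟩
    refine (le_centralizer_iff.mp (iSup_le fun r => ?_) : Q ≤ centralizer (coFitting q M : Set G)) hx
    haveI := Fact.mk r.2.1
    exact pCoreOf_le_centralizer r.2.2 (isPGroup_pCoreOf r M) (isPGroup_pCoreOf q D)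
      ((hrD r r.2.1).trans (le_normalizer_pCoreOf q D))
      (hQD.trans (hDM.trans (le_normalizer_pCoreOf r M)))
  exact (le_pCoreOf hQT (hTD.trans (le_normalizer_pCoreOf q D)) (isPGroup_pCoreOf q D)).trans
    (le_pCoreOf ((pCoreOf_le q T).trans (hTD.trans hDM))
      (hMT.trans (Coprime.normalizer_le_normalizer_map_of_characteristic (K := T)
        (hC := PSolvable.pCore_characteristic) _)) (isPGroup_pCoreOf q T))

end Cfsg.Agent.Lib.BenderPair
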